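import Mathlib
import Cfsg.Prelude.Def_BlockRank
import Cfsg.Prelude.Def_Classification2
import Cfsg.Agent.H634.Cols
import Cfsg.Agent.H634.HypS
import Cfsg.Agent.H634.ZJ
import Cfsg.Agent.H296.KB.Rank
import Cfsg.Agent.H973.KB.Cyc_m3
import Cfsg.Agent.H684.CoverCount_m3
import Cfsg.Agent.H600.AltIM_m3
import Cfsg.Agent.StandardComponent.AltAut
import Mathlib.GroupTheory.Perm.Centralizer
import Cfsg.Agent.FastGrp
import Cfsg.Agent.Prune
set_option linter.all false

section
prune_inst 0x7f00000000000000000000000000000000000000000000000000000000000000000000000000000000000000000000000000000000000000000000000000000000000000000000000000000000000000003fffffffffffffffffffffffffffbeffbdffffffff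

-- part: H784/K5/Crit
section
set_option linter.all false
open scoped Cfsg.Agent.FastGrp

-- part: H784/K5/Defs
section
/-!
# Principal `2`-blocks with five characters (S4874): definitions and the counting criteria
-/

set_option autoImplicit false

open Cfsg

namespace Cfsg.Agent.H784.K5

open Cfsg.Agent.H634.HypS Cfsg.Agent.H634.ZJ

universe u

/-- the centralizer of `x` is not `2`-nilpotent -/
def NN {G : Type u} [Group G] (x : G) : Prop :=
  ¬ HasNormalPComplement 2 ↥(Subgroup.centralizer ({x} : Set G))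

/-- An element of order four whose centralizer is not `2`-nilpotent, or an element of order eight and a nontrivial
`2`-element whose centralizer is not `2`-nilpotent. -/
def Crit (G : Type u) [Group G] : Prop :=
  (∃ y : G, orderOf y = 4 ∧ NN y) ∨ ((∃ y : G, orderOf y = 8) ∧ ∃ z : G, PEl 2 z ∧ z ≠ 1 ∧ NN z)

end Cfsg.Agent.H784.K5
end

-- part: H784/K5/Crit
section
/-!
# The counting criteria

`rank_sum_le` : `l(B₀) + ∑ l(B₀(C(x))) ≤ k(B₀)` for pairwise nonconjugate nontrivial `p`-elements `x`.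
`two_NN`, `NN_two`, `four` : the resulting criteria for `k(B₀) ≤ l(B₀) + 3`; `crit_false`.
-/

set_option autoImplicit false

open Cfsg

namespace Cfsg.Agent.H784.K5

open Cfsg.Agent.H634.HypS Cfsg.Agent.H634.ZJ Cfsg.Agent.H634.Cols

universe u

variable {G : Type u} [Group G] [Finite G] {p : ℕ} [Fact p.Prime] {M : Ideal AlgInt}

theorem rank_sum_le (hM : IsPModular p M) (S : Finset G) (hS : ∀ x ∈ S, PEl p x) (hS1 : ∀ x ∈ S, x ≠ 1)
    (hinj : ∀ x ∈ S, ∀ y ∈ S, IsConj x y → x = y) :
    blockRank p (principalBlock M G) +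
      ∑ x ∈ S, blockRank p (principalBlock M ↥(Subgroup.centralizer ({x} : Set G))) ≤
      Nat.card (principalBlock M G) := by
  classical
  have h1 : PEl p (1 : G) := ⟨0, by simp⟩
  obtain ⟨X, hSX, hX, hXrep⟩ := exists_reps (p := p) (insert 1 S)
    (by
      intro z hz
      rcases Finset.mem_insert.1 hz with rfl | hz
      · exact h1
      · exact hS z hz)
    (by
      intro z hz w hw hc
      rcases Finset.mem_insert.1 hz with rfl | hz <;> rcases Finset.mem_insert.1 hw with rfl | hw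
      · rfl
      · exact (hS1 _ hw (one_conj hc)).elim
      · exact (hS1 _ hz (one_conj hc.symm)).elim
      · exact hinj z hz w hw hc)
  rw [card_principal_eq hM X hX hXrep]
  have h2 : ∑ z ∈ insert 1 S,
      blockRank p (principalBlock M ↥(Subgroup.centralizer ({z} : Set G))) ≤
      ∑ z ∈ X, blockRank p (principalBlock M ↥(Subgroup.centralizer ({z} : Set G))) :=
    Finset.sum_le_sum_of_subset hSX
  rw [Finset.sum_insert (fun h => hS1 1 h rfl)] at h2
  have h3 : blockRank p (principalBlock M ↥(Subgroup.centralizer ({(1 : G)} : Set G))) =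
      blockRank p (principalBlock M G) := by
    rw [← finrank_secMap_principal hM h1, finrank_secMap_one]
  rwa [h3] at h2

/-- `l(B₀) ≥ 2` for groups which are not `2`-nilpotent -/
theorem two_le_rank (hM : IsPModular p M) (h : ¬ HasNormalPComplement p G) :
    2 ≤ blockRank p (principalBlock M G) := by
  have h1 := blockRank_pos (G := G) hM
  by_contra hcon
  have := Fintype.ofFinite G
  exact h (S4646.compl_of_rank_one hM (by omega))

/-- not `2`-nilpotent centralizers are inherited by overgroups -/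
theorem NN_map {H : Type u} [Group H] [Finite H] (f : H →* G) (hf : Function.Injective f) {x : H}
    (hx : NN x) : NN (f x) := by
  intro h
  refine hx ?_
  let g : ↥(Subgroup.centralizer ({x} : Set H)) →* ↥(Subgroup.centralizer ({f x} : Set G)) :=
    { toFun := fun c => ⟨f c, by
        rw [Subgroup.mem_centralizer_singleton_iff]
        have := Subgroup.mem_centralizer_singleton_iff.1 c.2
        rw [← map_mul, ← map_mul, this]⟩
      map_one' := by ext; simp
      map_mul' := by intro a b; ext; simp }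
  exact hasNormalPComplement_of_injective g (fun a b hab => by
    apply Subtype.ext
    exact hf (congrArg Subtype.val hab)) h

theorem Crit.map {H : Type u} [Group H] [Finite H] (f : H →* G) (hf : Function.Injective f) (h : Crit H) :
    Crit G := by
  rcases h with ⟨y, hy, hyN⟩ | ⟨⟨y, hy⟩, z, hz, hz1, hzN⟩
  · exact Or.inl ⟨f y, by rw [orderOf_injective f hf, hy], NN_map f hf hyN⟩
  · refine Or.inr ⟨⟨f y, by rw [orderOf_injective f hf, hy]⟩, f z, ?_, ?_, NN_map f hf hzN⟩
    · obtain ⟨k, hk⟩ := hz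
      exact ⟨k, by rw [orderOf_injective f hf, hk]⟩
    · intro h
      exact hz1 (hf (h.trans (map_one f).symm))

section criteria

variable {M : Ideal AlgInt}

end criteria

end Cfsg.Agent.H784.K5
end
end

-- part: H600/KSix/Emb
section
set_option linter.all false
open scoped Cfsg.Agent.FastGrp

-- part: H600/KSix/Base
section
/-!
# `k(B₀) ≥ 7`: criteria

* `not_compl_of_real` : a nontrivial real `p`-element (`p` odd) excludes a normal `p`-complement;
* `card_ge` : `2 + ∑ w i ≤ k(B₀)`, `w i` lower bounds for `l(B₀(C(u_i)))`;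
* `seven_of_degrees` : seven degrees prime to `p`, `C(U)` a `p`-group for a `p`-subgroup `U`.
-/

set_option autoImplicit false

open Cfsg Subgroup

namespace Cfsg.Agent.H600.KSix

universe u

theorem not_compl_of_real {X : Type*} [Group X] [Finite X] {p : ℕ} [Fact p.Prime] (hp2 : p ≠ 2) {y h : X}
    (hy : ∃ k : ℕ, orderOf y = p ^ k) (hy1 : y ≠ 1) (hr : h * y * h⁻¹ = y⁻¹) : ¬ HasNormalPComplement p X := by
  intro hX
  have hp : p.Prime := Fact.out
  obtain ⟨N, hN, hpN, k, hk⟩ := OddOrderLocal.NilpotentQuotient.exists_of_hasNormalPComplement hX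
  have hodd : Odd (p ^ k) := (hp.odd_of_ne_two hp2).pow
  -- the quotient has odd order
  have hcard : Nat.card (X ⧸ N) = p ^ k := hk
  set a : X ⧸ N := QuotientGroup.mk y with ha
  set b : X ⧸ N := QuotientGroup.mk h with hb
  have hab : b * a * b⁻¹ = a⁻¹ := by
    have h1 := congrArg (QuotientGroup.mk : X → X ⧸ N) hr
    exact h1
  have hpow : ∀ q : X ⧸ N, q ^ p ^ k = 1 := fun q => by rw [← hcard]; exact pow_card_eq_one'
  have e1 : b * a = a⁻¹ * b := mul_inv_eq_iff_eq_mul.1 hab
  have e2 : Commute (b ^ 2) a := by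
    show b ^ 2 * a = a * b ^ 2
    have e3 : b * a⁻¹ = a * b := by
      have h2 : b * a⁻¹ * b⁻¹ = (b * a * b⁻¹)⁻¹ := by group
      rw [hab, inv_inv] at h2
      exact mul_inv_eq_iff_eq_mul.1 h2
    calc b ^ 2 * a = b * (b * a) := by rw [pow_two, mul_assoc]
      _ = b * a⁻¹ * b := by rw [e1, mul_assoc]
      _ = a * b * b := by rw [e3]
      _ = a * b ^ 2 := by rw [mul_assoc, ← pow_two]
  obtain ⟨m, hm⟩ := hodd
  have e4 : b = (b ^ 2) ^ (m + 1) := by
    have h3 := hpow b
    rw [hm] at h3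
    rw [← pow_mul, show 2 * (m + 1) = 2 * m + 1 + 1 by ring, pow_succ, h3, one_mul]
  have e5 : Commute b a := by rw [e4]; exact e2.pow_left _
  have e6 : a = a⁻¹ := by
    rw [← hab, e5.eq]; group
  have e7 : a ^ 2 = 1 := by
    rw [pow_two]
    nth_rewrite 1 [e6]
    exact inv_mul_cancel a
  have e8 : a = 1 := by
    have h3 := hpow a
    rw [hm, pow_succ, pow_mul, e7, one_pow, one_mul] at h3
    exact h3
  have hyN : y ∈ N := (QuotientGroup.eq_one_iff y).1 e8
  obtain ⟨j, hj⟩ := hy
  have h5 : p ^ j ∣ Nat.card N := by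
    have h6 := orderOf_dvd_natCard (⟨y, hyN⟩ : N)
    rwa [← Subgroup.orderOf_coe, hj] at h6
  rcases Nat.eq_zero_or_pos j with rfl | hj0
  · rw [pow_zero, orderOf_eq_one_iff] at hj
    exact hy1 hj
  · exact hpN ((dvd_pow_self p hj0.ne').trans h5)

section

variable {G : Type u} [Group G] [Finite G] {p : ℕ} [Fact p.Prime] {M : Ideal AlgInt}

/-- a real `p`-element in `C(x)` -/
theorem two_le (hM : IsPModular p M) (hp2 : p ≠ 2) {x y h : G} (hyp : y ^ p = 1) (hy1 : y ≠ 1)
    (hyx : y * x = x * y) (hhx : h * x = x * h) (hr : h * y * h⁻¹ = y⁻¹) :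
    2 ≤ blockRank p (principalBlock M ↥(centralizer ({x} : Set G))) := by
  have hp : p.Prime := Fact.out
  refine H784.K5.two_le_rank hM ?_
  let y' : ↥(centralizer ({x} : Set G)) := ⟨y, mem_centralizer_singleton_iff.2 hyx⟩
  let h' : ↥(centralizer ({x} : Set G)) := ⟨h, mem_centralizer_singleton_iff.2 hhx⟩
  have h1 : y' ≠ 1 := fun h => hy1 (congrArg Subtype.val h)
  refine not_compl_of_real hp2 (y := y') (h := h') ⟨1, ?_⟩ h1 (Subtype.ext hr)
  rw [pow_one]
  exact orderOf_eq_prime (Subtype.ext hyp) h1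

/-- **The weights.** -/
theorem card_ge (hM : IsPModular p M) (h2 : 2 ≤ blockRank p (principalBlock M G)) {m : ℕ} (u : Fin m → G)
    (hu : ∀ i, ∃ k : ℕ, orderOf (u i) = p ^ k) (hu1 : ∀ i, u i ≠ 1)
    (hinj : ∀ i j, IsConj (u i) (u j) → i = j) (w : Fin m → ℕ)
    (hw : ∀ i, w i ≤ blockRank p (principalBlock M ↥(centralizer ({u i} : Set G)))) :
    2 + ∑ i, w i ≤ Nat.card (principalBlock M G) := by
  classical
  have hui : Function.Injective u := fun i j h => hinj i j (by rw [h])
  have h := H784.K5.rank_sum_le hM (Finset.univ.image u)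
    (by
      intro x hx
      obtain ⟨i, -, rfl⟩ := Finset.mem_image.1 hx
      exact hu i)
    (by
      intro x hx
      obtain ⟨i, -, rfl⟩ := Finset.mem_image.1 hx
      exact hu1 i)
    (by
      intro x hx y hy hxy
      obtain ⟨i, -, rfl⟩ := Finset.mem_image.1 hx
      obtain ⟨j, -, rfl⟩ := Finset.mem_image.1 hy
      rw [hinj i j hxy])
  rw [Finset.sum_image fun i _ j _ h => hui h] at h
  have h3 : ∑ i, w i ≤ ∑ i, blockRank p (principalBlock M ↥(centralizer ({u i} : Set G))) :=
    Finset.sum_le_sum fun i _ => hw i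
  omega

/-- seven degrees prime to `p` -/
theorem seven_of_degrees (hM : IsPModular p M) {U : Subgroup G} (hU : IsPGroup p U)
    (hC : IsPGroup p (centralizer (U : Set G))) (L : List ℕ) (hL : L.Nodup) (h7 : 7 ≤ L.length)
    (hd : ∀ d ∈ L, d ∈ charDegrees G ∧ ¬ p ∣ d) : 7 ≤ Nat.card (principalBlock M G) := by
  classical
  have : Finite (principalBlock M G) := by
    have := Fintype.ofFinite G
    have : Finite (IrrCharacter G) := Cfsg.Agent.Characters.Core.finite_irr
    exact Subtype.finite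
  have key : ∀ d : {d // d ∈ L}, ∃ χ : principalBlock M G, charDegree ((χ : IrrCharacter G) : G → ℂ) = d := by
    rintro ⟨d, hdL⟩
    obtain ⟨⟨χ, hχ⟩, hpd⟩ := hd d hdL
    exact ⟨⟨χ, H684.Principal.mem_of_not_dvd hM hU hC χ (by rw [hχ]; exact hpd)⟩, hχ⟩
  choose F hF using key
  have hinj : Function.Injective F := by
    intro a b hab
    apply Subtype.ext
    rw [← hF a, ← hF b, hab]
  have h1 := Nat.card_le_card_of_injective F hinj
  have h2 : Nat.card {d // d ∈ L} = L.length := by
    rw [Nat.card_eq_fintype_card, Fintype.card_of_subtype L.toFinset (fun x => List.mem_toFinset),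
      List.toFinset_card_of_nodup hL]
  omega

end

end Cfsg.Agent.H600.KSix
end

-- part: H600/KSix/Emb
section
/-!
# Groups between `A_n` and `S_n`
-/

set_option autoImplicit false

open Cfsg Subgroup Equiv

namespace Cfsg.Agent.H600.KSix

universe u

/-- extension by the identity -/
def ext {m n : ℕ} (h : m ≤ n) : Perm (Fin m) →* Perm (Fin n) := Perm.extendDomainHom (Fin.castLEquiv h)

theorem ext_injective {m n : ℕ} (h : m ≤ n) : Function.Injective (ext h) :=
  Perm.extendDomainHom_injective (Fin.castLEquiv h)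

theorem ext_cycleType {m n : ℕ} (h : m ≤ n) (σ : Perm (Fin m)) : (ext h σ).cycleType = σ.cycleType :=
  Perm.cycleType_extendDomain (Fin.castLEquiv h)

theorem ext_mem {m n : ℕ} (h : m ≤ n) {σ : Perm (Fin m)} (hσ : σ ∈ alternatingGroup (Fin m)) :
    ext h σ ∈ alternatingGroup (Fin n) := by
  rw [Perm.mem_alternatingGroup] at hσ ⊢
  rw [← hσ]
  exact Perm.sign_extendDomain σ (Fin.castLEquiv h)

theorem mem_of_pow {m k : ℕ} (hk : Odd k) {σ : Perm (Fin m)} (h : σ ^ k = 1) : σ ∈ alternatingGroup (Fin m) := by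
  rw [Perm.mem_alternatingGroup]
  have h1 : Perm.sign σ ^ k = 1 := by rw [← map_pow, h, map_one]
  rcases Int.units_eq_one_or (Perm.sign σ) with h2 | h2
  · exact h2
  · rw [h2, hk.neg_one_pow] at h1
    exact absurd h1 (by decide)

/-- `G` is the alternating or the symmetric group -/
structure Emb (n : ℕ) {G : Type u} [Group G] (f : G →* Perm (Fin n)) : Prop where
  inj : Function.Injective f
  alt : ∀ σ ∈ alternatingGroup (Fin n), ∃ g, f g = σ

theorem exists_emb {n : ℕ} (hn : 7 ≤ n) {G : Type u} [Group G] (N : Subgroup G) [N.Normal]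
    (e : N ≃* alternatingGroup (Fin n)) (hC : centralizer (N : Set G) = ⊥) :
    ∃ f : G →* Perm (Fin n), Emb n f := by
  obtain ⟨ψ, hψ⟩ := Cfsg.Agent.StandardComponent.AltAut.exists_autHom n hn
  let f : G →* Perm (Fin n) := ψ.comp ((MulAut.congr e).toMonoidHom.comp MulAut.conjNormal)
  have key : ∀ (g : G) (x : alternatingGroup (Fin n)),
      ((e ((MulAut.conjNormal g : MulAut N) (e.symm x)) : alternatingGroup (Fin n)) : Perm (Fin n)) =
        f g * x * (f g)⁻¹ := fun g x => hψ (MulAut.congr e (MulAut.conjNormal g)) x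
  refine ⟨f, ?_, ?_⟩
  · rw [injective_iff_map_eq_one]
    intro g hg
    have h1 : g ∈ centralizer (N : Set G) := by
      rw [mem_centralizer_iff]
      intro y hy
      have h2 := key g (e ⟨y, hy⟩)
      rw [hg, one_mul, inv_one, mul_one, e.symm_apply_apply] at h2
      have h3 := e.injective (Subtype.ext h2)
      have h4 := congrArg Subtype.val h3
      rw [MulAut.conjNormal_apply] at h4
      have h5 : g * y * g⁻¹ = y := h4
      rw [mul_inv_eq_iff_eq_mul] at h5
      exact h5.symm
    rw [hC] at h1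
    exact mem_bot.1 h1
  · intro σ hσ
    obtain ⟨m, rfl⟩ : ∃ m, n = m + 2 := ⟨n - 2, by omega⟩
    refine ⟨(e.symm ⟨σ, hσ⟩ : N), ?_⟩
    apply Cfsg.Agent.StandardComponent.AltAut.conj_unique (m := m) (by omega)
    intro x
    rw [← key]
    have h1 : (MulAut.conjNormal ((e.symm ⟨σ, hσ⟩ : N) : G) : MulAut N) (e.symm x) =
        e.symm (⟨σ, hσ⟩ * x * ⟨σ, hσ⟩⁻¹) := by
      apply Subtype.ext
      rw [MulAut.conjNormal_apply, map_mul, map_mul, map_inv]
      rfl
    rw [h1, e.apply_symm_apply]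
    rfl

variable {n : ℕ} {G : Type u} [Group G] {f : G →* Perm (Fin n)}

theorem Emb.pre (E : Emb n f) {m : ℕ} (h : m ≤ n) {σ : Perm (Fin m)}
    (hσ : σ ∈ alternatingGroup (Fin m) ∨ Function.Surjective f) : ∃ g, f g = ext h σ := by
  rcases hσ with h1 | h1
  · exact E.alt _ (ext_mem h h1)
  · exact h1 _

theorem ct_of_conj {m : ℕ} (h : m ≤ n) {x y : G} {σ τ : Perm (Fin m)} (hx : f x = ext h σ)
    (hy : f y = ext h τ) (hc : IsConj x y) : σ.cycleType = τ.cycleType := by
  obtain ⟨c, hc⟩ := isConj_iff.1 hc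
  rw [← ext_cycleType h σ, ← ext_cycleType h τ, ← hx, ← hy, ← hc, map_mul, map_mul, map_inv, Perm.cycleType_conj]

theorem supp_of_conj {m : ℕ} (h : m ≤ n) {x y : G} {σ τ : Perm (Fin m)} (hx : f x = ext h σ)
    (hy : f y = ext h τ) (hc : IsConj x y) : σ.support.card = τ.support.card := by
  rw [← Perm.sum_cycleType, ← Perm.sum_cycleType, ct_of_conj h hx hy hc]

theorem Emb.comm (E : Emb n f) {m : ℕ} (h : m ≤ n) {x y : G} {σ τ : Perm (Fin m)} (hx : f x = ext h σ)
    (hy : f y = ext h τ) (hc : σ * τ = τ * σ) : x * y = y * x := by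
  apply E.inj
  rw [map_mul, map_mul, hx, hy, ← map_mul, hc, map_mul]

theorem Emb.conjPow (E : Emb n f) {m : ℕ} (h : m ≤ n) {x y : G} {σ τ : Perm (Fin m)} (hx : f x = ext h σ)
    (hy : f y = ext h τ) {j : ℕ} (hc : σ * τ * σ⁻¹ = τ ^ j) : x * y * x⁻¹ = y ^ j := by
  apply E.inj
  rw [map_mul, map_mul, map_inv, map_pow, hx, hy, ← map_mul, ← map_inv, ← map_mul, hc, map_pow]

theorem Emb.conjInv (E : Emb n f) {m : ℕ} (h : m ≤ n) {x y : G} {σ τ : Perm (Fin m)} (hx : f x = ext h σ)
    (hy : f y = ext h τ) (hc : σ * τ * σ⁻¹ = τ⁻¹) : x * y * x⁻¹ = y⁻¹ := by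
  apply E.inj
  rw [map_mul, map_mul, map_inv, map_inv, hx, hy, ← map_mul, ← map_inv, ← map_mul, hc, map_inv]

theorem Emb.pow_one (E : Emb n f) {m : ℕ} (h : m ≤ n) {x : G} {σ : Perm (Fin m)} (hx : f x = ext h σ) {k : ℕ}
    (hc : σ ^ k = 1) : x ^ k = 1 := by
  apply E.inj
  rw [map_pow, hx, ← map_pow, hc, map_one, map_one]

theorem ne_one {m : ℕ} (h : m ≤ n) {x : G} {σ : Perm (Fin m)} (hx : f x = ext h σ) (hc : σ ≠ 1) : x ≠ 1 := by
  rintro rfl
  apply hc
  apply ext_injective h
  rw [← hx, map_one, map_one]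

variable [Finite G] {p : ℕ} [Fact p.Prime] {M : Ideal AlgInt}

theorem Emb.two_le (E : Emb n f) (hM : IsPModular p M) (hp2 : p ≠ 2) {m : ℕ} (h : m ≤ n) {x y t : Perm (Fin m)}
    {gx : G} (hgx : f gx = ext h x) (hy : y ^ p = 1) (hy1 : y ≠ 1)
    (ht : t ∈ alternatingGroup (Fin m) ∨ Function.Surjective f)
    (hyx : y * x = x * y) (htx : t * x = x * t) (hr : t * y * t⁻¹ = y⁻¹) :
    2 ≤ blockRank p (principalBlock M ↥(centralizer ({gx} : Set G))) := by
  obtain ⟨gy, hgy⟩ := E.pre h (Or.inl (mem_of_pow ((Fact.out : p.Prime).odd_of_ne_two hp2) hy))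
  obtain ⟨gt, hgt⟩ := E.pre h ht
  exact KSix.two_le hM hp2 (E.pow_one h hgy hy) (ne_one h hgy hy1) (E.comm h hgy hgx hyx) (E.comm h hgt hgx htx)
    (E.conjInv h hgt hgy hr)

theorem Emb.two_le_self (E : Emb n f) (hM : IsPModular p M) (hp2 : p ≠ 2) {m : ℕ} (h : m ≤ n) {y t : Perm (Fin m)}
    (hy : y ^ p = 1) (hy1 : y ≠ 1) (ht : t ∈ alternatingGroup (Fin m) ∨ Function.Surjective f)
    (hr : t * y * t⁻¹ = y⁻¹) : 2 ≤ blockRank p (principalBlock M G) := by
  obtain ⟨gy, hgy⟩ := E.pre h (Or.inl (mem_of_pow ((Fact.out : p.Prime).odd_of_ne_two hp2) hy))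
  obtain ⟨gt, hgt⟩ := E.pre h ht
  refine H784.K5.two_le_rank hM (not_compl_of_real hp2 (y := gy) (h := gt) ⟨1, ?_⟩ (ne_one h hgy hy1)
    (E.conjInv h hgt hgy hr))
  rw [_root_.pow_one]
  exact orderOf_eq_prime (E.pow_one h hgy hy) (ne_one h hgy hy1)

omit [Finite G] in
theorem Emb.exists_pel (E : Emb n f) (hp2 : p ≠ 2) {m : ℕ} (h : m ≤ n) {x : Perm (Fin m)} {k : ℕ} (hx : x ^ p ^ k = 1)
    (hx1 : x ≠ 1) : ∃ g, f g = ext h x ∧ g ≠ 1 ∧ ∃ j : ℕ, orderOf g = p ^ j := by
  have hp : p.Prime := Fact.out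
  obtain ⟨g, hg⟩ := E.pre h (Or.inl (mem_of_pow ((hp.odd_of_ne_two hp2).pow) hx))
  refine ⟨g, hg, ne_one h hg hx1, ?_⟩
  obtain ⟨j, -, hj⟩ := (Nat.dvd_prime_pow hp).1 (orderOf_dvd_of_pow_eq_one (E.pow_one h hg hx))
  exact ⟨j, hj⟩

/-- the centralizer of a `p`-cycle -/
theorem Emb.rank_cyc (E : Emb n f) (hM : IsPModular p M) {m : ℕ} (h : m ≤ n) (h2p : p ≤ n) (h3p : ¬ p ^ 2 ∣ (n - p).factorial)
    {x y c : Perm (Fin m)} {gx : G} (hgx : f gx = ext h x) (hx : x.cycleType = {p}) (hy : y ^ p = 1)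
    (hp2 : p ≠ 2) (hc : c ∈ alternatingGroup (Fin m) ∨ Function.Surjective f)
    (hyx : y * x = x * y) (hcx : c * x = x * c) (hny : ∀ i < p, y ≠ x ^ i) {j : ℕ} (hr : c * y * c⁻¹ = y ^ j) :
    orderOf (j : ZMod p) ≤ blockRank p (principalBlock M ↥(centralizer ({gx} : Set G))) := by
  classical
  have hp : p.Prime := Fact.out
  obtain ⟨gy, hgy⟩ := E.pre h (Or.inl (mem_of_pow (hp.odd_of_ne_two hp2) hy))
  obtain ⟨gc, hgc⟩ := E.pre h hc
  set C := centralizer ({gx} : Set G) with hC
  let x' : C := ⟨gx, mem_centralizer_singleton_iff.2 rfl⟩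
  let y' : C := ⟨gy, mem_centralizer_singleton_iff.2 (E.comm h hgy hgx hyx)⟩
  let c' : C := ⟨gc, mem_centralizer_singleton_iff.2 (E.comm h hgc hgx hcx)⟩
  let Z : Subgroup C := zpowers x'
  have hZn : Z.Normal := by
    refine ⟨fun z hz g => ?_⟩
    obtain ⟨k, rfl⟩ := mem_zpowers_iff.1 hz
    have hgx' : g * x' = x' * g := Subtype.ext (mem_centralizer_singleton_iff.1 g.2)
    have h1 : Commute g (x' ^ k) := (show Commute g x' from hgx').zpow_right k
    rw [h1.eq, mul_inv_cancel_right]
    exact hz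
  have hxp : x ^ p = 1 := by
    rw [← orderOf_dvd_iff_pow_eq_one, ← Perm.lcm_cycleType, hx, Multiset.lcm_singleton]
    simp
  have hx1 : x ≠ 1 := by
    rintro rfl
    rw [Perm.cycleType_one] at hx
    exact Multiset.singleton_ne_zero p hx.symm
  have hox : orderOf gx = p := orderOf_eq_prime (E.pow_one h hgx hxp) (ne_one h hgx hx1)
  have hcZ : Nat.card Z = p := by
    rw [Nat.card_zpowers, ← Subgroup.orderOf_coe]
    exact hox
  -- the order of the quotient
  have hcardC : Nat.card C ∣ (n - p).factorial * p := by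
    have h1 : Nat.card (centralizer ({f gx} : Set (Perm (Fin n)))) = (n - p).factorial * p := by
      rw [Perm.nat_card_centralizer, hgx, ext_cycleType, hx, Multiset.sum_singleton, Multiset.prod_singleton,
        Fintype.card_fin]
      simp
    rw [← h1]
    refine Subgroup.card_dvd_of_injective (f := (f.comp C.subtype).codRestrict (centralizer ({f gx} : Set (Perm (Fin n)))) ?_) ?_
    · intro g
      rw [mem_centralizer_singleton_iff]
      have h2 := mem_centralizer_singleton_iff.1 g.2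
      show f g * f gx = f gx * f g
      rw [← map_mul, ← map_mul, h2]
    · intro a b hab
      have h2 := congrArg Subtype.val hab
      exact Subtype.ext (E.inj h2)
  have hcardQ : Nat.card (C ⧸ Z) ∣ (n - p).factorial := by
    have h1 := Subgroup.card_eq_card_quotient_mul_card_subgroup Z
    rw [hcZ] at h1
    rw [h1] at hcardC
    exact Nat.dvd_of_mul_dvd_mul_right hp.pos hcardC
  -- a Sylow subgroup
  have P : Sylow p (C ⧸ Z) := default
  have hPc : IsCyclic (P : Subgroup (C ⧸ Z)) := by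
    obtain ⟨k, hk⟩ := IsPGroup.iff_card.1 P.isPGroup'
    have hk1 : k ≤ 1 := by
      by_contra hcon
      apply h3p
      refine ((pow_dvd_pow p (by omega : 2 ≤ k)).trans ?_).trans hcardQ
      rw [← hk]
      exact Subgroup.card_subgroup_dvd_card _
    interval_cases k
    · have : Subsingleton (P : Subgroup (C ⧸ Z)) := by
        rw [pow_zero] at hk
        exact (Nat.card_eq_one_iff_unique.1 hk).1
      exact isCyclic_of_subsingleton
    · rw [_root_.pow_one] at hk
      exact isCyclic_of_prime_card hk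
  have hy' : (QuotientGroup.mk' Z) y' ≠ 1 := by
    intro h1
    have h2 : y' ∈ Z := (QuotientGroup.eq_one_iff y').1 h1
    obtain ⟨k, hk⟩ := (mem_zpowers_iff_mem_range_orderOf (x := x') (y := y')).1 h2 |> Finset.mem_image.1
    have ho : orderOf x' = p := by
      rw [← Subgroup.orderOf_coe]
      exact hox
    rw [ho, Finset.mem_range] at hk
    refine hny k hk.1 (ext_injective h ?_)
    rw [map_pow, ← hgx, ← hgy, ← map_pow]
    have h3 := congrArg Subtype.val hk.2
    exact congrArg f h3.symm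
  have hyo : orderOf ((QuotientGroup.mk' Z) y') = p ^ 1 := by
    rw [_root_.pow_one]
    refine orderOf_eq_prime ?_ hy'
    rw [← map_pow]
    have h1 : y' ^ p = 1 := Subtype.ext (E.pow_one h hgy hy)
    rw [h1, map_one]
  have hcj : (QuotientGroup.mk' Z) c' * (QuotientGroup.mk' Z) y' * ((QuotientGroup.mk' Z) c')⁻¹ =
      (QuotientGroup.mk' Z) y' ^ j := by
    rw [← map_mul, ← map_inv, ← map_mul, ← map_pow]
    congr 1
    exact Subtype.ext (E.conjPow h hgc hgy hr)
  exact (H973.KB.rank_cyclic hM P hPc _ _ hy' 1 hyo j hcj).trans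
    (H296.KB.rank_quot_le hM (QuotientGroup.mk' Z) (QuotientGroup.mk'_surjective Z))

end Cfsg.Agent.H600.KSix
end
end
end
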